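import Mathlib
import Cfsg.Agent.H4.ElMASCHKE
import Cfsg.Agent.H4.ElIRR

/-!
# Structure of an endomorphism `T` with `T ^ r = 1`, `r` a prime different from the characteristic
(helper99, piece EL-STR for helper42 / S5949)
-/

set_option autoImplicit false
set_option linter.unusedSectionVars false

namespace Cfsg.Agent.H99.El

section

variable {F : Type*} [Field F] {V : Type*} [AddCommGroup V] [Module F V] [FiniteDimensional F V]

/-- Generic chain construction: if every admissible proper subspace of `W` can be enlarged by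
dimension `i` inside `W`, there is a chain of admissible subspaces of dimensions `0, i, 2i, …`
ending at `W`. -/
theorem chain_of_step (P : Submodule F V → Prop) (i : ℕ) (hi : 0 < i) (W : Submodule F V)
    (hP0 : P ⊥)
    (hstep : ∀ U, P U → U ≤ W → U ≠ W →
      ∃ U', P U' ∧ U ≤ U' ∧ U' ≤ W ∧ Module.finrank F U' = Module.finrank F U + i) :
    ∃ (a : ℕ) (B : ℕ → Submodule F V), Module.finrank F W = a * i ∧
      (∀ s, s ≤ a → P (B s) ∧ B s ≤ W ∧ Module.finrank F (B s) = s * i) ∧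
      (∀ s s', s ≤ s' → s' ≤ a → B s ≤ B s') := by
  classical
  choose! next hnext using hstep
  obtain ⟨B, hB⟩ : ∃ B : ℕ → Submodule F V, B = fun n =>
      Nat.rec (motive := fun _ => Submodule F V) ⊥ (fun _ U => if U = W then U else next U) n :=
    ⟨_, rfl⟩
  have hB0 : B 0 = ⊥ := by rw [hB]; rfl
  have hBs : ∀ n, B (n + 1) = if B n = W then B n else next (B n) := by
    intro n; rw [hB]
  have hinv : ∀ n, P (B n) ∧ B n ≤ W := by
    intro n
    induction n with
    | zero => rw [hB0]; exact ⟨hP0, bot_le⟩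
    | succ n ih =>
      rw [hBs]
      split_ifs with h
      · exact ih
      · exact ⟨(hnext _ ih.1 ih.2 h).1, (hnext _ ih.1 ih.2 h).2.2.1⟩
  have hmono1 : ∀ n, B n ≤ B (n + 1) := by
    intro n
    rw [hBs]
    split_ifs with h
    · exact le_rfl
    · exact (hnext _ (hinv n).1 (hinv n).2 h).2.1
  have hmono : ∀ s s', s ≤ s' → B s ≤ B s' := fun s s' h => monotone_nat_of_le_succ hmono1 h
  have hrank : ∀ n, (∀ m, m < n → B m ≠ W) → Module.finrank F (B n) = n * i := by
    intro n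
    induction n with
    | zero => intro _; rw [hB0]; simp
    | succ n ih =>
      intro hm
      have h1 := ih (fun m hmn => hm m (by omega))
      have h2 : B n ≠ W := hm n (by omega)
      rw [hBs, if_neg h2, (hnext _ (hinv n).1 (hinv n).2 h2).2.2.2, h1]
      ring
  have hex : ∃ n, B n = W := by
    by_contra hne
    push Not at hne
    have h1 := hrank (Module.finrank F W + 1) (fun m _ => hne m)
    have h2 : Module.finrank F (B (Module.finrank F W + 1)) ≤ Module.finrank F W :=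
      Submodule.finrank_mono (hinv _).2
    rw [h1] at h2
    have : Module.finrank F W + 1 ≤ (Module.finrank F W + 1) * i := Nat.le_mul_of_pos_right _ hi
    omega
  refine ⟨Nat.find hex, B, ?_, ?_, ?_⟩
  · have h1 := hrank (Nat.find hex) (fun m hm => Nat.find_min hex hm)
    rw [Nat.find_spec hex] at h1
    exact h1
  · intro s hs
    exact ⟨(hinv s).1, (hinv s).2, hrank s (fun m hm => Nat.find_min hex (by omega))⟩
  · intro s s' hss' _
    exact hmono s s' hss'

/-- A minimal nonzero invariant subspace inside a nonzero invariant subspace. -/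
theorem exists_min_invariant (T : Module.End F V) (C : Submodule F V) (hC : ∀ v ∈ C, T v ∈ C)
    (hC0 : C ≠ ⊥) :
    ∃ M : Submodule F V, M ≤ C ∧ M ≠ ⊥ ∧ (∀ v ∈ M, T v ∈ M) ∧
      ∀ M' : Submodule F V, M' ≤ M → (∀ v ∈ M', T v ∈ M') → M' = ⊥ ∨ M' = M := by
  classical
  have hex : ∃ n, ∃ M : Submodule F V, M ≤ C ∧ M ≠ ⊥ ∧ (∀ v ∈ M, T v ∈ M) ∧
      Module.finrank F M = n := ⟨_, C, le_rfl, hC0, hC, rfl⟩
  obtain ⟨M, hMC, hM0, hMinv, hMn⟩ := Nat.find_spec hex
  refine ⟨M, hMC, hM0, hMinv, ?_⟩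
  intro M' hM' hM'inv
  by_cases h0 : M' = ⊥
  · exact Or.inl h0
  · right
    have h1 : Nat.find hex ≤ Module.finrank F M' :=
      Nat.find_min' hex ⟨M', hM'.trans hMC, h0, hM'inv, rfl⟩
    rw [← hMn] at h1
    exact Submodule.eq_of_le_of_finrank_le hM' h1

theorem orderOf_card_pos [Fintype F] (r : ℕ) (hr : r.Prime) (hrF : (r : F) ≠ 0) :
    0 < orderOf (Fintype.card F : ZMod r) := by
  have : Fact r.Prime := ⟨hr⟩
  have hne : (Fintype.card F : ZMod r) ≠ 0 := by
    intro h0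
    rw [ZMod.natCast_eq_zero_iff] at h0
    obtain ⟨n, hp, hcard⟩ := FiniteField.card F (ringChar F)
    rw [hcard] at h0
    have h1 := (Nat.prime_dvd_prime_iff_eq hr hp).mp (hr.dvd_of_dvd_pow h0)
    apply hrF
    rw [h1]
    exact CharP.cast_eq_zero F (ringChar F)
  rw [orderOf_pos_iff]
  exact isOfFinOrder_iff_pow_eq_one.mpr
    ⟨r - 1, by have := hr.two_le; omega, ZMod.pow_card_sub_one_eq_one hne⟩

/-- A minimal invariant subspace without fixed vectors has dimension `ord_r(q)`. -/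
theorem finrank_min_invariant [Fintype F] (T : Module.End F V) (r : ℕ) (hr : r.Prime)
    (hrF : (r : F) ≠ 0) (hT : T ^ r = 1) (M : Submodule F V) (hM0 : M ≠ ⊥)
    (hMinv : ∀ v ∈ M, T v ∈ M) (hfix : ∀ v ∈ M, T v = v → v = 0)
    (hmin : ∀ M' : Submodule F V, M' ≤ M → (∀ v ∈ M', T v ∈ M') → M' = ⊥ ∨ M' = M) :
    Module.finrank F M = orderOf (Fintype.card F : ZMod r) := by
  obtain ⟨TM, hTM⟩ : ∃ TM : Module.End F M, TM = T.restrict hMinv := ⟨_, rfl⟩
  have happ : ∀ w : M, ((TM w : M) : V) = T w := by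
    intro w; rw [hTM]; rfl
  have hpow : ∀ (k : ℕ) (w : M), (((TM ^ k) w : M) : V) = (T ^ k) w := by
    intro k
    induction k with
    | zero => intro w; simp
    | succ k ih =>
      intro w
      rw [pow_succ', pow_succ', Module.End.mul_apply, Module.End.mul_apply, happ, ih]
  have hTMr : TM ^ r = 1 := by
    apply LinearMap.ext
    intro w
    apply Subtype.ext
    rw [hpow, hT]
    rfl
  apply Cfsg.Agent.H4.El.finrank_of_irreducible_pow_eq_one TM r hr hrF hTMr
  · exact (Submodule.nontrivial_iff_ne_bot).mpr hM0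
  · intro w hw
    apply Subtype.ext
    apply hfix (w : V) w.2
    rw [← happ, hw]
  · intro U hU
    have h1 := hmin (U.map M.subtype) (by
        intro v hv
        obtain ⟨u, _, rfl⟩ := Submodule.mem_map.mp hv
        exact u.2) (by
        intro v hv
        obtain ⟨u, hu, rfl⟩ := Submodule.mem_map.mp hv
        exact Submodule.mem_map.mpr ⟨TM u, hU u hu, happ u⟩)
    rcases h1 with h1 | h1
    · left
      rw [eq_bot_iff]
      intro u hu
      have h2 : (u : V) ∈ U.map M.subtype := Submodule.mem_map.mpr ⟨u, hu, rfl⟩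
      rw [h1, Submodule.mem_bot] at h2
      rw [Submodule.mem_bot]
      exact Subtype.ext h2
    · right
      rw [eq_top_iff]
      intro u _
      have h2 : (u : V) ∈ U.map M.subtype := by rw [h1]; exact u.2
      obtain ⟨u', hu', he⟩ := Submodule.mem_map.mp h2
      have h3 : u' = u := Subtype.ext he
      rw [← h3]
      exact hu'

/-- The enlargement step. -/
theorem exists_step [Fintype F] (T : Module.End F V) (r : ℕ) (hr : r.Prime) (hrF : (r : F) ≠ 0)
    (hT : T ^ r = 1) (W' : Submodule F V) (hW' : ∀ v ∈ W', T v ∈ W')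
    (hfix : ∀ v ∈ W', T v = v → v = 0) (U : Submodule F V) (hU : ∀ v ∈ U, T v ∈ U)
    (hUW : U ≤ W') (hne : U ≠ W') :
    ∃ U', (∀ v ∈ U', T v ∈ U') ∧ U ≤ U' ∧ U' ≤ W' ∧
      Module.finrank F U' = Module.finrank F U + orderOf (Fintype.card F : ZMod r) := by
  obtain ⟨U₁, hU₁inv, hcompl⟩ := Cfsg.Agent.H4.El.exists_invariant_compl T r hrF hT U hU
  have hCinv : ∀ v ∈ U₁ ⊓ W', T v ∈ U₁ ⊓ W' := fun v hv => ⟨hU₁inv v hv.1, hW' v hv.2⟩
  have hC0 : U₁ ⊓ W' ≠ ⊥ := by
    intro h0
    apply hne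
    have h1 : U ⊔ (U₁ ⊓ W') = W' := by
      rw [← sup_inf_assoc_of_le U₁ hUW, hcompl.sup_eq_top, top_inf_eq]
    rw [h0, sup_bot_eq] at h1
    exact h1
  obtain ⟨M, hMC, hM0, hMinv, hMmin⟩ := exists_min_invariant T (U₁ ⊓ W') hCinv hC0
  have hMi := finrank_min_invariant T r hr hrF hT M hM0 hMinv
    (fun v hv => hfix v (hMC hv).2) hMmin
  refine ⟨U ⊔ M, ?_, le_sup_left, sup_le hUW (hMC.trans inf_le_right), ?_⟩
  · intro v hv
    obtain ⟨u, hu, m, hm, rfl⟩ := Submodule.mem_sup.mp hv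
    rw [map_add]
    exact Submodule.add_mem _ (Submodule.mem_sup_left (hU u hu))
      (Submodule.mem_sup_right (hMinv m hm))
  · have hdisj : U ⊓ M = ⊥ := by
      rw [eq_bot_iff]
      calc U ⊓ M ≤ U ⊓ U₁ := inf_le_inf_left U (hMC.trans inf_le_left)
        _ = ⊥ := hcompl.inf_eq_bot
    have h1 := Submodule.finrank_sup_add_finrank_inf_eq U M
    rw [hdisj, finrank_bot, add_zero, hMi] at h1
    exact h1

theorem mem_ker_sub_one (T : Module.End F V) (v : V) : v ∈ LinearMap.ker (T - 1) ↔ T v = v := by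
  rw [LinearMap.mem_ker, LinearMap.sub_apply, Module.End.one_apply, sub_eq_zero]

theorem finrank_invariant_mod [Fintype F] (T : Module.End F V) (r : ℕ) (hr : r.Prime)
    (hrF : (r : F) ≠ 0) (hT : T ^ r = 1) (W : Submodule F V) (hW : ∀ v ∈ W, T v ∈ W) :
    ∃ a : ℕ, Module.finrank F W = Module.finrank F ↥(W ⊓ LinearMap.ker (T - 1))
      + a * orderOf (Fintype.card F : ZMod r) := by
  have hW₁ : ∀ v ∈ W ⊓ LinearMap.ker (T - 1), T v ∈ W ⊓ LinearMap.ker (T - 1) := by
    intro v hv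
    have h1 := (mem_ker_sub_one T v).mp hv.2
    rw [h1]
    exact hv
  obtain ⟨U₁, hU₁inv, hcompl⟩ := Cfsg.Agent.H4.El.exists_invariant_compl T r hrF hT _ hW₁
  have hW'inv : ∀ v ∈ U₁ ⊓ W, T v ∈ U₁ ⊓ W := fun v hv => ⟨hU₁inv v hv.1, hW v hv.2⟩
  have hfix : ∀ v ∈ U₁ ⊓ W, T v = v → v = 0 := by
    intro v hv hTv
    have h1 : v ∈ (W ⊓ LinearMap.ker (T - 1)) ⊓ U₁ :=
      ⟨⟨hv.2, (mem_ker_sub_one T v).mpr hTv⟩, hv.1⟩
    rw [hcompl.inf_eq_bot] at h1
    exact (Submodule.mem_bot F).mp h1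
  have hsum : (W ⊓ LinearMap.ker (T - 1)) ⊔ (U₁ ⊓ W) = W := by
    rw [← sup_inf_assoc_of_le U₁ (inf_le_left : W ⊓ LinearMap.ker (T - 1) ≤ W),
      hcompl.sup_eq_top, top_inf_eq]
  have hdisj : (W ⊓ LinearMap.ker (T - 1)) ⊓ (U₁ ⊓ W) = ⊥ := by
    rw [eq_bot_iff]
    calc (W ⊓ LinearMap.ker (T - 1)) ⊓ (U₁ ⊓ W) ≤ (W ⊓ LinearMap.ker (T - 1)) ⊓ U₁ :=
          inf_le_inf_left _ inf_le_left
      _ = ⊥ := hcompl.inf_eq_bot
  obtain ⟨a, B, ha, -, -⟩ := chain_of_step (fun U => ∀ v ∈ U, T v ∈ U)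
    (orderOf (Fintype.card F : ZMod r)) (orderOf_card_pos r hr hrF) (U₁ ⊓ W)
    (by
      intro v hv
      rw [(Submodule.mem_bot F).mp hv, map_zero]
      exact Submodule.zero_mem _)
    (fun U hU hUW hne => exists_step T r hr hrF hT (U₁ ⊓ W) hW'inv hfix U hU hUW hne)
  refine ⟨a, ?_⟩
  have h1 := Submodule.finrank_sup_add_finrank_inf_eq (W ⊓ LinearMap.ker (T - 1)) (U₁ ⊓ W)
  rw [hsum, hdisj, finrank_bot, add_zero, ha] at h1
  exact h1

/-- A complete flag inside a subspace. -/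
theorem exists_flag (K : Submodule F V) :
    ∃ C : ℕ → Submodule F V,
      (∀ t, t ≤ Module.finrank F K → C t ≤ K ∧ Module.finrank F (C t) = t) ∧
      (∀ t t', t ≤ t' → t' ≤ Module.finrank F K → C t ≤ C t') := by
  obtain ⟨a, C, ha, hC1, hC2⟩ := chain_of_step (fun _ : Submodule F V => True) 1 Nat.one_pos K
    trivial (by
      intro U _ hUK hne
      obtain ⟨v, hvK, hvU⟩ := SetLike.exists_of_lt (lt_of_le_of_ne hUK hne)
      have hv0 : v ≠ 0 := by
        rintro rfl
        exact hvU U.zero_mem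
      refine ⟨U ⊔ Submodule.span F {v}, trivial, le_sup_left,
        sup_le hUK ((Submodule.span_singleton_le_iff_mem v K).mpr hvK), ?_⟩
      have hdisj : U ⊓ Submodule.span F {v} = ⊥ := by
        rw [eq_bot_iff]
        rintro x ⟨hxU, hxv⟩
        obtain ⟨c, rfl⟩ := Submodule.mem_span_singleton.mp hxv
        rw [Submodule.mem_bot]
        by_cases hc : c = 0
        · rw [hc, zero_smul]
        · exfalso
          apply hvU
          have h1 := U.smul_mem c⁻¹ hxU
          rwa [smul_smul, inv_mul_cancel₀ hc, one_smul] at h1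
      have h1 := Submodule.finrank_sup_add_finrank_inf_eq U (Submodule.span F {v})
      rw [hdisj, finrank_bot, add_zero, finrank_span_singleton hv0] at h1
      exact h1)
  rw [mul_one] at ha
  refine ⟨C, ?_, ?_⟩
  · intro t ht
    rw [ha] at ht
    obtain ⟨-, h1, h2⟩ := hC1 t ht
    rw [mul_one] at h2
    exact ⟨h1, h2⟩
  · intro t t' htt' ht'
    rw [ha] at ht'
    exact hC2 t t' htt' ht'

theorem exists_grid [Fintype F] (T : Module.End F V) (r : ℕ) (hr : r.Prime) (hrF : (r : F) ≠ 0)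
    (hT : T ^ r = 1) :
    ∃ (j : ℕ) (G : ℕ → ℕ → Submodule F V),
      j * orderOf (Fintype.card F : ZMod r) + Module.finrank F (LinearMap.ker (T - 1))
        = Module.finrank F V ∧
      (∀ s t, s ≤ j → t ≤ Module.finrank F (LinearMap.ker (T - 1)) →
        (∀ v ∈ G s t, T v ∈ G s t) ∧
        Module.finrank F (G s t) = s * orderOf (Fintype.card F : ZMod r) + t) ∧
      (∀ s s' t t', s ≤ s' → s' ≤ j → t ≤ t' → t' ≤ Module.finrank F (LinearMap.ker (T - 1)) →
        G s t ≤ G s' t') := by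
  have hKinv : ∀ v ∈ LinearMap.ker (T - 1), T v ∈ LinearMap.ker (T - 1) := by
    intro v hv
    have h1 := (mem_ker_sub_one T v).mp hv
    rw [h1]
    exact hv
  obtain ⟨U₁, hU₁inv, hcompl⟩ := Cfsg.Agent.H4.El.exists_invariant_compl T r hrF hT _ hKinv
  have hfix : ∀ v ∈ U₁, T v = v → v = 0 := by
    intro v hv hTv
    have h1 : v ∈ LinearMap.ker (T - 1) ⊓ U₁ := ⟨(mem_ker_sub_one T v).mpr hTv, hv⟩
    rw [hcompl.inf_eq_bot] at h1
    exact (Submodule.mem_bot F).mp h1
  obtain ⟨j, B, hj, hB1, hB2⟩ := chain_of_step (fun U => ∀ v ∈ U, T v ∈ U)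
    (orderOf (Fintype.card F : ZMod r)) (orderOf_card_pos r hr hrF) U₁
    (by
      intro v hv
      rw [(Submodule.mem_bot F).mp hv, map_zero]
      exact Submodule.zero_mem _)
    (fun U hU hUW hne => exists_step T r hr hrF hT U₁ hU₁inv hfix U hU hUW hne)
  obtain ⟨C, hC1, hC2⟩ := exists_flag (LinearMap.ker (T - 1))
  refine ⟨j, fun s t => B s ⊔ C t, ?_, ?_, ?_⟩
  · rw [← hj, add_comm]
    exact Submodule.finrank_add_eq_of_isCompl hcompl
  · intro s t hs ht
    obtain ⟨hBinv, hBU, hBrank⟩ := hB1 s hs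
    obtain ⟨hCK, hCrank⟩ := hC1 t ht
    constructor
    · intro v hv
      obtain ⟨b, hb, c, hc, rfl⟩ := Submodule.mem_sup.mp hv
      rw [map_add, (mem_ker_sub_one T c).mp (hCK hc)]
      exact Submodule.add_mem _ (Submodule.mem_sup_left (hBinv b hb)) (Submodule.mem_sup_right hc)
    · have hdisj : B s ⊓ C t = ⊥ := by
        rw [eq_bot_iff]
        calc B s ⊓ C t ≤ U₁ ⊓ LinearMap.ker (T - 1) := inf_le_inf hBU hCK
          _ = ⊥ := by rw [inf_comm]; exact hcompl.inf_eq_bot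
      have h1 := Submodule.finrank_sup_add_finrank_inf_eq (B s) (C t)
      rw [hdisj, finrank_bot, add_zero, hBrank, hCrank] at h1
      exact h1
  · intro s s' t t' hss' hs' htt' ht'
    exact sup_le_sup (hB2 s s' hss' hs') (hC2 t t' htt' ht')

end

end Cfsg.Agent.H99.El
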