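import Cfsg.Agent.Helper55.J48

/-!
# Existence and conjugation invariance of maximal straddling 2-subgroups
(lib for the S2951 / S2952 team project "JZ", leader helper64)
-/

set_option autoImplicit false
open Cfsg

universe u

namespace Cfsg.Agent.H99.JzMax

variable {G : Type u} [Group G] [Finite G]

/-- `maxElemAbelianOrder` is invariant under conjugation. -/
theorem a_conj_le (T : Subgroup G) (g : G) :
    maxElemAbelianOrder T ≤ maxElemAbelianOrder (T.map (MulAut.conj g).toMonoidHom) := by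
  obtain ⟨A, hAT, hA, hcard⟩ := Cfsg.Agent.Helper55.ThJ.gens_nonempty T
  have h1 := Cfsg.Agent.Helper55.ThJ.card_le_a (T.map (MulAut.conj g).toMonoidHom)
    (Subgroup.map_mono hAT : A.map (MulAut.conj g).toMonoidHom ≤ _)
    (Cfsg.Agent.H14.elemAb_map' hA _)
  rw [← hcard]
  rw [Nat.card_congr (Subgroup.equivMapOfInjective A (MulAut.conj g).toMonoidHom
    (MulAut.conj g).injective).toEquiv]
  exact h1

theorem map_conj_inv (T : Subgroup G) (g : G) :
    (T.map (MulAut.conj g).toMonoidHom).map (MulAut.conj g⁻¹).toMonoidHom = T := by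
  rw [Subgroup.map_map]
  have : (MulAut.conj g⁻¹).toMonoidHom.comp (MulAut.conj g).toMonoidHom = MonoidHom.id G := by
    ext x
    simp [MulAut.conj_apply]
    group
  rw [this, Subgroup.map_id]

theorem a_conj (T : Subgroup G) (g : G) :
    maxElemAbelianOrder (T.map (MulAut.conj g).toMonoidHom) = maxElemAbelianOrder T := by
  apply le_antisymm
  · have h := a_conj_le (T.map (MulAut.conj g).toMonoidHom) g⁻¹
    rwa [map_conj_inv] at h
  · exact a_conj_le T g

theorem card_conj (T : Subgroup G) (g : G) :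
    Nat.card ↥(T.map (MulAut.conj g).toMonoidHom) = Nat.card ↥T :=
  (Nat.card_congr (Subgroup.equivMapOfInjective T (MulAut.conj g).toMonoidHom
    (MulAut.conj g).injective).toEquiv).symm

theorem cardJ_conj (T : Subgroup G) (g : G) :
    Nat.card ↥(thompsonSubgroupOf 2 (T.map (MulAut.conj g).toMonoidHom)) =
      Nat.card ↥(thompsonSubgroupOf 2 T) := by
  rw [← Cfsg.Agent.H14.thompsonSubgroupOf_conj 2 g T]
  exact card_conj _ g

/-- straddling 2-subgroups are permuted by `M`. -/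
theorem straddling_conj {M T : Subgroup G} (hT : T ∈ straddlingTwoSubgroups M) {m : G}
    (hm : m ∈ M) : T.map (MulAut.conj m).toMonoidHom ∈ straddlingTwoSubgroups M := by
  obtain ⟨hT2, hT1, hTM, L, ⟨R, hR2, hR1, hLR⟩, hTL, hLM⟩ := hT
  refine ⟨hT2.map _, ?_, ?_, L.map (MulAut.conj m).toMonoidHom,
    ⟨R.map (MulAut.conj m).toMonoidHom, hR2.map _, ?_, ?_⟩, Subgroup.map_mono hTL, ?_⟩
  · intro h
    apply hT1
    rw [eq_bot_iff]
    intro x hx
    have : m * x * m⁻¹ ∈ T.map (MulAut.conj m).toMonoidHom := ⟨x, hx, rfl⟩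
    rw [h, Subgroup.mem_bot] at this
    rw [Subgroup.mem_bot]
    have e : x = m⁻¹ * (m * x * m⁻¹) * m := by group
    rw [e, this]
    group
  · rintro _ ⟨x, hx, rfl⟩
    exact M.mul_mem (M.mul_mem hm (hTM hx)) (M.inv_mem hm)
  · intro h
    apply hR1
    rw [eq_bot_iff]
    intro x hx
    have : m * x * m⁻¹ ∈ R.map (MulAut.conj m).toMonoidHom := ⟨x, hx, rfl⟩
    rw [h, Subgroup.mem_bot] at this
    rw [Subgroup.mem_bot]
    have e : x = m⁻¹ * (m * x * m⁻¹) * m := by group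
    rw [e, this]
    group
  · rw [hLR]
    ext y
    rw [Subgroup.mem_map_equiv, MulAut.conj_symm_apply, Subgroup.mem_normalizer_iff,
      Subgroup.mem_normalizer_iff]
    constructor
    · intro h z
      rw [Subgroup.mem_map_equiv, Subgroup.mem_map_equiv, MulAut.conj_symm_apply,
        MulAut.conj_symm_apply]
      have h1 := h (m⁻¹ * z * m)
      have e : m⁻¹ * y * m * (m⁻¹ * z * m) * (m⁻¹ * y * m)⁻¹ = m⁻¹ * (y * z * y⁻¹) * m := by group
      rw [e] at h1
      exact h1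
    · intro h z
      have h1 := h (m * z * m⁻¹)
      rw [Subgroup.mem_map_equiv, Subgroup.mem_map_equiv, MulAut.conj_symm_apply,
        MulAut.conj_symm_apply] at h1
      have e1 : m⁻¹ * (m * z * m⁻¹) * m = z := by group
      have e2 : m⁻¹ * (y * (m * z * m⁻¹) * y⁻¹) * m = m⁻¹ * y * m * z * (m⁻¹ * y * m)⁻¹ := by
        group
      rw [e1, e2] at h1
      exact h1
  · intro h
    apply hLM
    intro x hx
    have h1 : m * x * m⁻¹ ∈ M := h ⟨x, hx, rfl⟩
    have h2 := M.mul_mem (M.mul_mem (M.inv_mem hm) h1) hm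
    have e : m⁻¹ * (m * x * m⁻¹) * m = x := by group
    rwa [e] at h2

/-- maximal straddling 2-subgroups are permuted by `M`. -/
theorem maxStraddling_conj {M T : Subgroup G} (hT : T ∈ maxStraddlingTwoSubgroups M) {m : G}
    (hm : m ∈ M) : T.map (MulAut.conj m).toMonoidHom ∈ maxStraddlingTwoSubgroups M := by
  refine ⟨straddling_conj hT.1 hm, ?_⟩
  intro T₁ hT₁
  rw [a_conj, cardJ_conj, card_conj]
  exact hT.2 T₁ hT₁

/-- If there is a straddling 2-subgroup, there is a maximal one. -/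
theorem exists_maxStraddling (M : Subgroup G) (h : (straddlingTwoSubgroups M).Nonempty) :
    ∃ T : Subgroup G, T ∈ maxStraddlingTwoSubgroups M := by
  obtain ⟨T₁, hT₁⟩ := h
  -- step 1: maximize `a`
  haveI : Nonempty {T : Subgroup G // T ∈ straddlingTwoSubgroups M} := ⟨⟨T₁, hT₁⟩⟩
  obtain ⟨⟨Ta, hTa⟩, hmaxa⟩ := Finite.exists_max
    (fun T : {T : Subgroup G // T ∈ straddlingTwoSubgroups M} => maxElemAbelianOrder T.1)
  -- step 2: maximize `|J|`
  haveI : Nonempty {T : Subgroup G // T ∈ straddlingTwoSubgroups M ∧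
      maxElemAbelianOrder T = maxElemAbelianOrder Ta} := ⟨⟨Ta, hTa, rfl⟩⟩
  obtain ⟨⟨Tj, hTj, hTja⟩, hmaxj⟩ := Finite.exists_max
    (fun T : {T : Subgroup G // T ∈ straddlingTwoSubgroups M ∧
      maxElemAbelianOrder T = maxElemAbelianOrder Ta} => Nat.card ↥(thompsonSubgroupOf 2 T.1))
  -- step 3: maximize the order
  haveI : Nonempty {T : Subgroup G // T ∈ straddlingTwoSubgroups M ∧
      maxElemAbelianOrder T = maxElemAbelianOrder Ta ∧
      Nat.card ↥(thompsonSubgroupOf 2 T) = Nat.card ↥(thompsonSubgroupOf 2 Tj)} :=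
    ⟨⟨Tj, hTj, hTja, rfl⟩⟩
  obtain ⟨⟨T₀, hT₀, hT₀a, hT₀j⟩, hmax⟩ := Finite.exists_max
    (fun T : {T : Subgroup G // T ∈ straddlingTwoSubgroups M ∧
      maxElemAbelianOrder T = maxElemAbelianOrder Ta ∧
      Nat.card ↥(thompsonSubgroupOf 2 T) = Nat.card ↥(thompsonSubgroupOf 2 Tj)} => Nat.card ↥T.1)
  refine ⟨T₀, hT₀, ?_⟩
  intro T hT
  refine ⟨?_, ?_⟩
  · rw [hT₀a]
    exact hmaxa ⟨T, hT⟩
  · intro ha
    rw [hT₀a] at ha
    refine ⟨?_, ?_⟩
    · rw [hT₀j]
      exact hmaxj ⟨T, hT, ha⟩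
    · intro hj
      rw [hT₀j] at hj
      exact hmax ⟨T, hT, ha, hj⟩

/-- A maximal straddling 2-subgroup can be chosen inside a given Sylow 2-subgroup `S ≤ M`. -/
theorem exists_maxStraddling_le (M : Subgroup G) (S : Sylow 2 G) (hSM : (S : Subgroup G) ≤ M)
    (h : (straddlingTwoSubgroups M).Nonempty) :
    ∃ T : Subgroup G, T ∈ maxStraddlingTwoSubgroups M ∧ T ≤ (S : Subgroup G) := by
  obtain ⟨T, hT⟩ := exists_maxStraddling M h
  obtain ⟨m, hm, hTm⟩ := Cfsg.Agent.Helper55.J48.exists_sylow_conj S M hSM T hT.1.1 hT.1.2.2.1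
  refine ⟨T.map (MulAut.conj m⁻¹).toMonoidHom, maxStraddling_conj hT (M.inv_mem hm), ?_⟩
  rintro _ ⟨x, hx, rfl⟩
  have h1 := hTm hx
  rw [Sylow.coe_subgroup_smul, Subgroup.mem_pointwise_smul_iff_inv_smul_mem] at h1
  simpa [MulAut.smul_def, MulAut.conj_inv_apply] using h1

end Cfsg.Agent.H99.JzMax

#print axioms Cfsg.Agent.H99.JzMax.exists_maxStraddling_le
#print axioms Cfsg.Agent.H99.JzMax.maxStraddling_conj
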