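import Cfsg.Agent.H99.JzMax
import Cfsg.Agent.H64.JzDefs

/-!
# JZ-MAXS (piece 8 of the S2951 / S2952 team project "JZ", leader helper64)
-/

set_option autoImplicit false
open Cfsg

universe u

namespace Cfsg.Agent.H99.Jz

/-- JZ-MAXS: a nonempty straddling family has a maximal member inside a given Sylow 2-subgroup
of `G` contained in `M`. -/
theorem maxS : Cfsg.Agent.H64.Jz.StMaxS.{u} := by
  intro G _ _ S M hSM h
  exact Cfsg.Agent.H99.JzMax.exists_maxStraddling_le M S hSM h

example : Cfsg.Agent.H64.Jz.StMaxS.{u} := maxS.{u}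

end Cfsg.Agent.H99.Jz

#print axioms Cfsg.Agent.H99.Jz.maxS
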