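import Mathlib
import Cfsg.Agent.H99.OrtDefs
import Cfsg.Agent.H61.SubDIAGZ
import Cfsg.Agent.H77.SubNT

/-! Piece `S5981-E35` (helper99): the exceptional cases `n = r ∈ {3, 5}`, `(q - 1)_r = r`. -/

set_option autoImplicit false
open scoped MatrixGroups

namespace Cfsg.Agent.H99.OrtE

open Cfsg.Agent.H99.Ort

universe u

/-- In dimension `r`, a matrix of determinant `1` with `x ^ r = z` has `z = 1` when
`(q - 1)_r = r`. -/
theorem z_eq_one {F : Type u} [Field F] [Fintype F] (r : ℕ) (hr : r.Prime) (hodd : Odd r)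
    (hv : padicValNat r (Fintype.card F - 1) = 1)
    (x : Matrix (Fin r) (Fin r) F) (hdet : x.det = 1) (z : F)
    (hx : x ^ r = z • (1 : Matrix (Fin r) (Fin r) F)) : z = 1 := by
  classical
  haveI : Nonempty (Fin r) := ⟨⟨0, hr.pos⟩⟩
  have hzr : z ^ r = 1 := by
    have h1 := congrArg Matrix.det hx
    rw [Matrix.det_pow, hdet, one_pow, Matrix.det_smul, Matrix.det_one, mul_one,
      Fintype.card_fin] at h1
    exact h1.symm
  by_contra hz1
  have hno : ∀ b : F, b ^ r ≠ z := by
    intro b hb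
    have h1 : b ^ (r ^ 2) = 1 := by rw [pow_two, pow_mul, hb, hzr]
    have h2 := Cfsg.Agent.H77.Sub.pow_eq_one_of_val_one r hr hv b h1
    exact hz1 (hb ▸ h2)
  have hirr : Irreducible (Polynomial.X ^ r - Polynomial.C z : Polynomial F) :=
    X_pow_sub_C_irreducible_of_prime hr hno
  have hmonic : (Polynomial.X ^ r - Polynomial.C z : Polynomial F).Monic :=
    Polynomial.monic_X_pow_sub_C z hr.ne_zero
  have hae : Polynomial.aeval x (Polynomial.X ^ r - Polynomial.C z : Polynomial F) = 0 := by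
    rw [map_sub, map_pow, Polynomial.aeval_X, Polynomial.aeval_C, hx,
      Algebra.algebraMap_eq_smul_one, sub_self]
  have hmin : (Polynomial.X ^ r - Polynomial.C z : Polynomial F) = minpoly F x :=
    minpoly.eq_of_irreducible_of_monic hirr hae hmonic
  have hchar : x.charpoly = Polynomial.X ^ r - Polynomial.C z := by
    apply Polynomial.eq_of_monic_of_dvd_of_natDegree_le hmonic (Matrix.charpoly_monic x)
    · rw [hmin]; exact Matrix.minpoly_dvd_charpoly x
    · rw [Matrix.charpoly_natDegree_eq_dim, Fintype.card_fin, Polynomial.natDegree_X_pow_sub_C]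
  have hd := Matrix.det_eq_sign_charpoly_coeff x
  rw [hchar, hdet, Fintype.card_fin, hodd.neg_one_pow, Polynomial.coeff_sub,
    Polynomial.coeff_X_pow, Polynomial.coeff_C_zero, if_neg hr.ne_zero.symm] at hd
  apply hz1
  rw [hd]; ring

theorem e35 : StE35.{u} := by
  intro F _ _ q r hq hr h35 hv h2 x hdet z hx δ d₀ hδ hd₀ hcomb hcong
  classical
  subst hq
  have hodd : Odd r := by rcases h35 with rfl | rfl <;> decide
  have hz : z = 1 := z_eq_one r hr hodd hv x hdet z hx
  rw [hz, one_smul] at hx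
  have hr1 : 1 ≤ r := hr.pos
  have hdvd : r ∣ Fintype.card F - 1 := by
    apply dvd_of_one_le_padicValNat; rw [hv]
  have hrF : (r : F) ≠ 0 := by
    intro h0
    obtain ⟨k, hk⟩ := hdvd
    have h1 : ((Fintype.card F - 1 : ℕ) : F) = 0 := by rw [hk, Nat.cast_mul, h0, zero_mul]
    rw [Nat.cast_sub Fintype.card_pos, FiniteField.cast_card_eq_zero, Nat.cast_one,
      zero_sub] at h1
    exact one_ne_zero (neg_eq_zero.mp h1)
  have hc1 : orderOf (Fintype.card F : ZMod r) = 1 :=
    (Cfsg.Agent.H77.Sub.dvd_sub_one_iff_order_one (Fintype.card F) r hr Fintype.card_pos).mp hdvd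
  obtain ⟨Q₀, d, hQ₀, hd, hxQ⟩ := Cfsg.Agent.H61.Sub.exists_diagonalization r r hr hrF hc1 x hx
  have hQ₀0 : Q₀.det ≠ 0 := hQ₀.ne_zero
  have hprod : ∏ i, d i = 1 := by
    have h1 := congrArg Matrix.det hxQ
    rw [Matrix.det_mul, Matrix.det_mul, hdet, one_mul, Matrix.det_diagonal] at h1
    have h3 : Q₀.det * 1 = Q₀.det * ∏ i, d i := by rw [mul_one]; exact h1
    exact (mul_left_cancel₀ hQ₀0 h3).symm
  obtain ⟨π, c, hc, hπ, hdπ⟩ := hcomb d hd hprod
  have hπ2 : π ^ 2 ^ 1 = 1 := by
    ext i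
    simp [pow_two, hπ]
  haveI : Fact (Nat.Prime 2) := ⟨Nat.prime_two⟩
  obtain ⟨i₀, hi₀⟩ := Equiv.Perm.exists_fixed_point_of_prime (p := 2) (n := 1)
    (by rw [Fintype.card_fin]; exact hodd.not_two_dvd_nat) hπ2
  obtain ⟨ε, hε⟩ : ∃ ε : F, ε = (π.permMatrix F).det := ⟨_, rfl⟩
  have hεε : ε * ε = 1 := by
    rw [hε, Matrix.det_permutation]
    rcases Int.units_eq_one_or (Equiv.Perm.sign π) with h | h <;> rw [h] <;> simp
  obtain ⟨a, ha⟩ : ∃ a : Fin r → F, a = fun i => if i = i₀ then δ * ε else 1 := ⟨_, rfl⟩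
  have haπ : ∀ i, a (π i) = a i := by
    intro i
    rw [ha]
    by_cases hi : i = i₀
    · rw [hi, hi₀]
    · have hne : π i ≠ i₀ := by
        intro h; apply hi; rw [← hπ i, h, hi₀]
      simp only [if_neg hi, if_neg hne]
  have haprod : ∏ i, a i = δ * ε := by
    rw [ha, Finset.prod_ite_eq' Finset.univ i₀ (fun _ => δ * ε)]; simp
  obtain ⟨A', hA'⟩ : ∃ A' : Matrix (Fin r) (Fin r) F,
      A' = Matrix.diagonal a * π.permMatrix F := ⟨_, rfl⟩
  have hA'e : ∀ i j, A' i j = if π i = j then a i else 0 := by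
    intro i j
    rw [hA', Matrix.diagonal_mul]
    simp [Equiv.Perm.permMatrix, PEquiv.toMatrix_apply, Equiv.toPEquiv_apply]
  have hA't : A'.transpose = A' := by
    ext i j
    rw [Matrix.transpose_apply, hA'e, hA'e]
    by_cases h : π i = j
    · have h' : π j = i := by rw [← h, hπ]
      rw [if_pos h, if_pos h', ← h, haπ]
    · have h' : π j ≠ i := by intro h'; apply h; rw [← h', hπ]
      rw [if_neg h, if_neg h']
  have hA'det : A'.det = δ := by
    rw [hA', Matrix.det_mul, Matrix.det_diagonal, haprod, ← hε, mul_assoc, hεε, mul_one]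
  have hA'd : (Matrix.diagonal d).transpose * A' * Matrix.diagonal d = c • A' := by
    ext i j
    rw [Matrix.diagonal_transpose, Matrix.mul_diagonal, Matrix.diagonal_mul, Matrix.smul_apply,
      hA'e, smul_eq_mul]
    by_cases h : π i = j
    · rw [if_pos h, ← h, ← hdπ i]; ring
    · rw [if_neg h]; ring
  have hΔdet : (Matrix.diagonal (dgn r δ)).det = δ := det_diagonal_dgn r hr1 δ
  obtain ⟨T, hT, hTA⟩ := hcong A' (Matrix.diagonal (dgn r δ)) hA't (Matrix.diagonal_transpose _)
    (by rw [hA'det]; exact isUnit_iff_ne_zero.mpr hδ)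
    (by rw [hΔdet]; exact isUnit_iff_ne_zero.mpr hδ)
    (by rw [hA'det, hΔdet]; exact ⟨δ, rfl⟩)
  have hT0 : T.det ≠ 0 := hT.ne_zero
  have hTT : T * T⁻¹ = 1 := Matrix.mul_nonsing_inv T hT
  obtain ⟨e, he⟩ : ∃ e : Fin r → F,
      e = fun i => if i = i₀ then d₀ * (Q₀.det * T.det)⁻¹ else 1 := ⟨_, rfl⟩
  have heprod : ∏ i, e i = d₀ * (Q₀.det * T.det)⁻¹ := by
    rw [he, Finset.prod_ite_eq' Finset.univ i₀ (fun _ => d₀ * (Q₀.det * T.det)⁻¹)]; simp
  refine ⟨Q₀ * Matrix.diagonal e * T, T⁻¹ * Matrix.diagonal d * T, c, ?_, hc, ?_, ?_⟩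
  · rw [Matrix.det_mul, Matrix.det_mul, Matrix.det_diagonal, heprod]
    field_simp
  · have hcomm : Matrix.diagonal d * Matrix.diagonal e = Matrix.diagonal e * Matrix.diagonal d := by
      rw [Matrix.diagonal_mul_diagonal, Matrix.diagonal_mul_diagonal]
      congr 1; ext i; ring
    calc x * (Q₀ * Matrix.diagonal e * T)
        = (x * Q₀) * Matrix.diagonal e * T := by simp only [Matrix.mul_assoc]
      _ = Q₀ * (Matrix.diagonal d * Matrix.diagonal e) * T := by
          rw [hxQ]; simp only [Matrix.mul_assoc]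
      _ = Q₀ * (Matrix.diagonal e * Matrix.diagonal d) * T := by rw [hcomm]
      _ = Q₀ * Matrix.diagonal e * (T * T⁻¹) * Matrix.diagonal d * T := by
          rw [hTT]; simp only [Matrix.mul_assoc, Matrix.one_mul]
      _ = Q₀ * Matrix.diagonal e * T * (T⁻¹ * Matrix.diagonal d * T) := by
          simp only [Matrix.mul_assoc]
  · have hTT' : T⁻¹.transpose * T.transpose = 1 := by
      rw [← Matrix.transpose_mul, hTT, Matrix.transpose_one]
    calc (T⁻¹ * Matrix.diagonal d * T).transpose * Matrix.diagonal (dgn r δ)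
          * (T⁻¹ * Matrix.diagonal d * T)
        = T.transpose * (Matrix.diagonal d).transpose * (T⁻¹.transpose * T.transpose) * A'
            * (T * T⁻¹) * Matrix.diagonal d * T := by
          rw [← hTA]
          simp only [Matrix.transpose_mul, Matrix.mul_assoc]
      _ = T.transpose * ((Matrix.diagonal d).transpose * A' * Matrix.diagonal d) * T := by
          rw [hTT, hTT']
          simp only [Matrix.mul_assoc, Matrix.one_mul, Matrix.mul_one]
      _ = c • Matrix.diagonal (dgn r δ) := by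
          rw [hA'd, Matrix.mul_smul, Matrix.smul_mul, hTA]

example : StE35.{u} := e35

end Cfsg.Agent.H99.OrtE
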