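import Mathlib
import Cfsg.Agent.H98.PsInstDefs

/-! S3664 team project (helper7 / helper98), piece PS-I-FIX5 (helper99): an element of order 5 of
`Sz(8) : 3` with a non-zero fixed point on `Mat₄(𝔽₈)` (twisted action). -/

set_option autoImplicit false

namespace Cfsg.Agent.H99.Ps

open Cfsg Cfsg.Agent.H8 Cfsg.Agent.H98.Ps Matrix

theorem fix5_mat_pow : (szMmat 1 (0 : K) 1 * szWmat K) ^ 5 = 1 := by decide +kernel

theorem fix5_mat_ne : szMmat 1 (0 : K) 1 * szWmat K ≠ 1 := by decide +kernel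

theorem fix5_mat_frob :
    fm frob (szMmat 1 (0 : K) 1 * szWmat K) = szMmat 1 (0 : K) 1 * szWmat K := by
  decide +kernel

theorem fix5_mat_g5 : mat g5 = szMmat 1 (0 : K) 1 * szWmat K := by
  show mat (gU 0 1 * gW) = _
  rw [mat_mul, mat_gU, mat_gW]

theorem fix5_orderOf_g5 : orderOf g5 = 5 := by
  haveI : Fact (Nat.Prime 5) := ⟨by norm_num⟩
  refine orderOf_eq_prime ?_ ?_
  · apply mat_inj
    rw [mat_pow, fix5_mat_g5, fix5_mat_pow, mat_one]
  · intro h
    apply fix5_mat_ne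
    rw [← fix5_mat_g5, h, mat_one]

/-- [PS-I-FIX5] -/
theorem fix5 : StFix5 := by
  refine ⟨(SemidirectProduct.inl g5 : A), ?_, 1, one_ne_zero, ?_⟩
  · rw [orderOf_injective (SemidirectProduct.inl : S →* A) SemidirectProduct.inl_injective g5]
    exact fix5_orderOf_g5
  · rw [inl_smul_eq_iff, mul_one, one_mul, fix5_mat_g5, fix5_mat_frob]

example : Cfsg.Agent.H98.Ps.StFix5 := Cfsg.Agent.H99.Ps.fix5

end Cfsg.Agent.H99.Ps

#print axioms Cfsg.Agent.H99.Ps.fix5
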