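import Mathlib
import Cfsg.Agent.H98.PsInstDefs

/-! S3664 team project (helper7 / helper98), piece PS-I-FIX7 (helper99): an element of order 7 of
`Sz(8) : 3` with a non-zero fixed point on `Mat₄(𝔽₈)` (twisted action). -/

set_option autoImplicit false

namespace Cfsg.Agent.H99.Ps

open Cfsg Cfsg.Agent.H8 Cfsg.Agent.H98.Ps Matrix

theorem fix7_mat_pow : (szHmat 1 u3) ^ 7 = 1 := by decide +kernel

theorem fix7_mat_ne : szHmat 1 u3 ≠ 1 := by decide +kernel

theorem fix7_single_ne : (Matrix.single (0 : Fin 4) (2 : Fin 4) (1 : K) : M) ≠ 0 := by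
  decide +kernel

theorem fix7_mat_fix :
    szHmat 1 u3 * (Matrix.single (0 : Fin 4) (2 : Fin 4) (1 : K) : M) =
      (Matrix.single (0 : Fin 4) (2 : Fin 4) (1 : K) : M) * fm frob (szHmat 1 u3) := by
  decide +kernel

theorem fix7_orderOf_g7 : orderOf g7 = 7 := by
  haveI : Fact (Nat.Prime 7) := ⟨by norm_num⟩
  refine orderOf_eq_prime ?_ ?_
  · apply mat_inj
    rw [mat_pow]
    show (mat (gH u3)) ^ 7 = mat 1
    rw [mat_gH, fix7_mat_pow, mat_one]
  · intro h
    apply fix7_mat_ne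
    rw [← mat_gH]
    show mat g7 = 1
    rw [h, mat_one]

/-- [PS-I-FIX7] -/
theorem fix7 : StFix7 := by
  refine ⟨(SemidirectProduct.inl g7 : A), ?_, Matrix.single 0 2 1, fix7_single_ne, ?_⟩
  · rw [orderOf_injective (SemidirectProduct.inl : S →* A) SemidirectProduct.inl_injective g7]
    exact fix7_orderOf_g7
  · rw [inl_smul_eq_iff]
    show mat (gH u3) * _ = _ * fm frob (mat (gH u3))
    rw [mat_gH]
    exact fix7_mat_fix

example : Cfsg.Agent.H98.Ps.StFix7 := Cfsg.Agent.H99.Ps.fix7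

end Cfsg.Agent.H99.Ps

#print axioms Cfsg.Agent.H99.Ps.fix7
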