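import Mathlib
import Cfsg.Agent.H98.PsInstDefs
import Cfsg.Agent.H8.SzTori

/-! S3664 team project (helper7 / helper98), piece PS-I-NO (helper99): the element orders
`21, 35, 26, 39, 65, 91` do not occur in `Sz(8) : 3`, from the generic index-3 lemma `StIdx3`,
the orders in `Sz(8)` and the centralizer of the field automorphism. -/

set_option autoImplicit false

namespace Cfsg.Agent.H99.Ps

open Cfsg Cfsg.Agent.H8 Cfsg.Agent.H98.Ps Matrix

theorem no_frob_pow : frob ^ 3 = 1 := by
  ext x
  show frob (frob (frob x)) = x
  revert x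
  decide

theorem no_frob_ne : frob ≠ 1 := by
  intro h
  have h1 : frob (Cfsg.Agent.H41.F8.ofNat 2) = Cfsg.Agent.H41.F8.ofNat 2 := by rw [h]; rfl
  revert h1
  decide

theorem no_orderOf_frob : orderOf frob = 3 := by
  haveI : Fact (Nat.Prime 3) := ⟨by norm_num⟩
  exact orderOf_eq_prime no_frob_pow no_frob_ne

theorem no_orderOf_inr : orderOf (SemidirectProduct.inr frob : A) = 3 := by
  rw [orderOf_injective (SemidirectProduct.inr : RingAut K →* A) SemidirectProduct.inr_injective]
  exact no_orderOf_frob

theorem no_range_eq :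
    (SemidirectProduct.inl : S →* A).range = (SemidirectProduct.rightHom : A →* RingAut K).ker :=
  SemidirectProduct.range_inl_eq_ker_rightHom

theorem no_idx : ((SemidirectProduct.inl : S →* A).range).index = 3 := by
  rw [no_range_eq, Subgroup.index_ker,
    MonoidHom.range_eq_top.mpr SemidirectProduct.rightHom_surjective, Subgroup.card_top,
    sz_card_ringAut hK]

theorem no_card_range : Nat.card ((SemidirectProduct.inl : S →* A).range) = Nat.card S :=
  (Nat.card_congr
    (MonoidHom.ofInjective (f := (SemidirectProduct.inl : S →* A))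
      SemidirectProduct.inl_injective).toEquiv).symm

theorem no_comm (s : S)
    (h : (SemidirectProduct.inl s : A) * SemidirectProduct.inr frob =
      SemidirectProduct.inr frob * SemidirectProduct.inl s) : tw s = s := by
  have h1 := congrArg SemidirectProduct.left h
  rw [SemidirectProduct.mul_left, SemidirectProduct.mul_left, SemidirectProduct.left_inl,
    SemidirectProduct.right_inl, SemidirectProduct.left_inr, SemidirectProduct.right_inr,
    map_one, mul_one, one_mul] at h1
  exact h1.symm

/-- [PS-I-NO] -/
theorem no (hI : Cfsg.Agent.H7.Ps.StIdx3) (h1 : StNoS) (h2 : StCent) : StNo := by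
  haveI : Finite S := Finite.of_injective (fun s : S => s.1.1) (fun _ _ h => Subtype.ext (Subtype.ext h))
  haveI : Finite (RingAut K) := Nat.finite_of_card_ne_zero (by rw [sz_card_ringAut hK]; norm_num)
  haveI : Finite A := Finite.of_equiv _ (SemidirectProduct.equivProd).symm
  refine hI A (SemidirectProduct.inl : S →* A).range ?_ no_idx ?_ ?_
    (SemidirectProduct.inr frob : A) no_orderOf_inr ?_
  · rw [no_range_eq]
    infer_instance
  · rw [no_card_range]
    exact sz_three_not_dvd (le_refl 1) hK
  · rintro _ ⟨s, rfl⟩
    rw [orderOf_injective (SemidirectProduct.inl : S →* A) SemidirectProduct.inl_injective s]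
    exact h1 s
  · rintro _ ⟨s, rfl⟩ hc
    rw [orderOf_injective (SemidirectProduct.inl : S →* A) SemidirectProduct.inl_injective s]
    exact h2 s (no_comm s hc)

example (hI : Cfsg.Agent.H7.Ps.StIdx3) (h1 : Cfsg.Agent.H98.Ps.StNoS)
    (h2 : Cfsg.Agent.H98.Ps.StCent) : Cfsg.Agent.H98.Ps.StNo := Cfsg.Agent.H99.Ps.no hI h1 h2

end Cfsg.Agent.H99.Ps

#print axioms Cfsg.Agent.H99.Ps.no
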