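import Mathlib
import Cfsg.Agent.H99.S4Defs

/-! Piece `S6000-C5NF` (helper99): normal form of matrices of order five. -/

set_option autoImplicit false
open scoped MatrixGroups

namespace Cfsg.Agent.H99.S4P

open Cfsg.Agent.H99.S4
open Matrix

universe u

theorem five_ne_zero_of_order {F : Type u} [Field F] [Fintype F]
    (hord : orderOf (Fintype.card F : ZMod 5) = 4) : (5 : F) ≠ 0 := by
  intro h
  obtain ⟨p, hp⟩ := CharP.exists F
  haveI := hp
  haveI : Fact p.Prime := ⟨CharP.char_is_prime F p⟩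
  have h5' : ((5 : ℕ) : F) = 0 := by exact_mod_cast h
  have hdvd := (CharP.cast_eq_zero_iff F p 5).mp h5'
  have hp5 : p = 5 := (Nat.prime_dvd_prime_iff_eq Fact.out Nat.prime_five).mp hdvd
  obtain ⟨n, -, hcard⟩ := FiniteField.card F p
  have h0 : (Fintype.card F : ZMod 5) = 0 := by
    rw [hcard, hp5]
    push_cast
    have : ((5 : ℕ) : ZMod 5) = 0 := by decide
    have h5z : (5 : ZMod 5) = 0 := by decide
    rw [h5z, zero_pow n.pos.ne']
  rw [h0] at hord
  have := pow_orderOf_eq_one (0 : ZMod 5)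
  rw [hord] at this
  revert this
  decide

/-- Orbit counting: an invariant subspace without fixed vectors has dimension divisible by `4`. -/
theorem four_dvd_finrank {F : Type u} [Field F] [Fintype F]
    (hord : orderOf (Fintype.card F : ZMod 5) = 4) (y : M4 F) (hy5 : y ^ 5 = 1)
    (U : Submodule F (Fin 4 → F)) (hinv : ∀ u ∈ U, y *ᵥ u ∈ U)
    (hfix : ∀ u ∈ U, y *ᵥ u = u → u = 0) : 4 ∣ Module.finrank F U := by
  classical
  haveI : Fact (Nat.Prime 5) := ⟨Nat.prime_five⟩
  obtain ⟨f, hf⟩ : ∃ f : Function.End U, ∀ u : U, ((f u : U) : Fin 4 → F) = y *ᵥ (u : Fin 4 → F) :=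
    ⟨fun u => ⟨y *ᵥ (u : Fin 4 → F), hinv u u.2⟩, fun u => rfl⟩
  have hpow : ∀ k : ℕ, ∀ u : U, (((f ^ k) u : U) : Fin 4 → F) = (y ^ k) *ᵥ (u : Fin 4 → F) := by
    intro k
    induction k with
    | zero => intro u; rw [pow_zero, pow_zero, Matrix.one_mulVec]; rfl
    | succ k ih =>
      intro u
      have h1 : (f ^ (k + 1)) u = f ((f ^ k) u) := by rw [pow_succ']; rfl
      rw [h1, hf, ih, Matrix.mulVec_mulVec, ← pow_succ']
  have hf5 : f ^ 5 ^ 1 = 1 := by
    funext u
    apply Subtype.ext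
    rw [pow_one, hpow, hy5, Matrix.one_mulVec]
    rfl
  have hcard := Equiv.Perm.card_fixedPoints_modEq (f := f) (p := 5) (n := 1) hf5
  simp only [← Nat.card_eq_fintype_card] at hcard
  have hfixcard : Nat.card (Function.fixedPoints f) = 1 := by
    rw [Nat.card_eq_one_iff_exists]
    refine ⟨⟨0, ?_⟩, ?_⟩
    · show f 0 = 0
      apply Subtype.ext
      rw [hf]
      simp
    · rintro ⟨u, hu⟩
      apply Subtype.ext
      have h1 : y *ᵥ (u : Fin 4 → F) = u := by
        rw [← hf]
        exact congrArg Subtype.val hu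
      apply Subtype.ext
      exact hfix u u.2 h1
  rw [hfixcard, Module.natCard_eq_pow_finrank (K := F) (V := U), Nat.card_eq_fintype_card] at hcard
  have h2 : ((Fintype.card F : ℕ) : ZMod 5) ^ Module.finrank F U = 1 := by
    have h3 := (ZMod.natCast_eq_natCast_iff _ _ 5).mpr hcard
    push_cast at h3
    exact h3
  have h4 := orderOf_dvd_of_pow_eq_one h2
  rw [hord] at h4
  exact h4

theorem c5NF : StC5NF.{u} := by
  intro F _ _ hord y hy5 hy1
  classical
  have h5 : (5 : F) ≠ 0 := five_ne_zero_of_order hord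
  obtain ⟨N, hN⟩ : ∃ N : M4 F, N = 1 + y + y ^ 2 + y ^ 3 + y ^ 4 := ⟨_, rfl⟩
  have hNy : N * (y - 1) = 0 := by
    have h1 : N * (y - 1) = y ^ 5 - 1 := by rw [hN]; noncomm_ring
    rw [h1, hy5, sub_self]
  have hyN : N * y = y * N := by rw [hN]; noncomm_ring
  -- a fixed vector is killed by 5
  have hfixN : ∀ u : Fin 4 → F, y *ᵥ u = u → N *ᵥ u = (5 : F) • u := by
    intro u hu
    have hk : ∀ k : ℕ, (y ^ k) *ᵥ u = u := by
      intro k
      induction k with
      | zero => simp
      | succ k ih => rw [pow_succ, ← Matrix.mulVec_mulVec, hu, ih]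
    rw [hN]
    simp only [Matrix.add_mulVec, Matrix.one_mulVec, hk, hu]
    have : (5 : F) • u = u + u + u + u + u := by
      rw [show (5 : F) = 1 + 1 + 1 + 1 + 1 by norm_num]
      simp only [add_smul, one_smul]
    rw [this]
  have hfix0 : ∀ u : Fin 4 → F, N *ᵥ u = 0 → y *ᵥ u = u → u = 0 := by
    intro u hNu hu
    have h1 := hfixN u hu
    rw [hNu] at h1
    exact (smul_eq_zero.mp h1.symm).resolve_left h5
  -- the kernel of N
  have hkerinv : ∀ u ∈ LinearMap.ker (Matrix.mulVecLin N), y *ᵥ u ∈ LinearMap.ker (Matrix.mulVecLin N) := by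
    intro u hu
    rw [LinearMap.mem_ker, Matrix.mulVecLin_apply] at hu ⊢
    rw [Matrix.mulVec_mulVec, hyN, ← Matrix.mulVec_mulVec, hu, Matrix.mulVec_zero]
  have hker4 := four_dvd_finrank hord y hy5 (LinearMap.ker (Matrix.mulVecLin N)) hkerinv
    (fun u hu hfu => hfix0 u (by rw [LinearMap.mem_ker, Matrix.mulVecLin_apply] at hu; exact hu) hfu)
  have hkerle : Module.finrank F (LinearMap.ker (Matrix.mulVecLin N)) ≤ 4 := by
    have := Submodule.finrank_le (LinearMap.ker (Matrix.mulVecLin N))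
    rw [Module.finrank_fin_fun] at this
    exact this
  have hNzero : ∀ u : Fin 4 → F, N *ᵥ u = 0 := by
    obtain ⟨k, hk⟩ := hker4
    have hk01 : k = 0 ∨ k = 1 := by omega
    rcases hk01 with rfl | rfl
    · exfalso
      rw [mul_zero] at hk
      have hbot : LinearMap.ker (Matrix.mulVecLin N) = ⊥ := Submodule.finrank_eq_zero.mp hk
      apply hy1
      have h1 : y - 1 = 0 := by
        apply Matrix.toLin'.injective
        apply LinearMap.ext
        intro u
        have h2 : (y - 1) *ᵥ u ∈ LinearMap.ker (Matrix.mulVecLin N) := by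
          rw [LinearMap.mem_ker, Matrix.mulVecLin_apply, Matrix.mulVec_mulVec, hNy,
            Matrix.zero_mulVec]
        rw [hbot, Submodule.mem_bot] at h2
        rw [Matrix.toLin'_apply, h2]
        simp
      exact sub_eq_zero.mp h1
    · rw [mul_one] at hk
      have htop : LinearMap.ker (Matrix.mulVecLin N) = ⊤ := by
        apply Submodule.eq_top_of_finrank_eq
        rw [hk, Module.finrank_fin_fun]
      intro u
      have : u ∈ LinearMap.ker (Matrix.mulVecLin N) := by rw [htop]; exact Submodule.mem_top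
      rw [LinearMap.mem_ker, Matrix.mulVecLin_apply] at this
      exact this
  -- the cyclic vectors
  obtain ⟨v0, hv0⟩ : ∃ v0 : Fin 4 → F, v0 ≠ 0 := ⟨Pi.single 0 1, by
    intro h
    have := congrFun h 0
    simp at this⟩
  obtain ⟨v1, hv1⟩ : ∃ v1 : Fin 4 → F, v1 = y *ᵥ v0 := ⟨_, rfl⟩
  obtain ⟨v2, hv2⟩ : ∃ v2 : Fin 4 → F, v2 = y *ᵥ v1 := ⟨_, rfl⟩
  obtain ⟨v3, hv3⟩ : ∃ v3 : Fin 4 → F, v3 = y *ᵥ v2 := ⟨_, rfl⟩
  have hv4 : y *ᵥ v3 = -(v0 + v1 + v2 + v3) := by
    have h1 := hNzero v0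
    rw [hN] at h1
    simp only [Matrix.add_mulVec, Matrix.one_mulVec] at h1
    have e2 : (y ^ 2) *ᵥ v0 = v2 := by rw [hv2, hv1, pow_two, Matrix.mulVec_mulVec]
    have e3 : (y ^ 3) *ᵥ v0 = v3 := by
      rw [hv3, hv2, hv1, pow_succ, pow_two, Matrix.mulVec_mulVec, Matrix.mulVec_mulVec,
        Matrix.mul_assoc]
    have e4 : (y ^ 4) *ᵥ v0 = y *ᵥ v3 := by
      rw [← e3, Matrix.mulVec_mulVec, ← pow_succ']
    rw [e2, e3, e4, ← hv1] at h1
    rw [eq_neg_iff_add_eq_zero, ← h1]
    abel
  obtain ⟨b, hb⟩ : ∃ b : Fin 4 → Fin 4 → F, b = ![v0, v1, v2, v3] := ⟨_, rfl⟩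
  have hyb : ∀ j : Fin 4, y *ᵥ b j ∈ Submodule.span F (Set.range b) := by
    intro j
    have hmem : ∀ k : Fin 4, b k ∈ Submodule.span F (Set.range b) :=
      fun k => Submodule.subset_span ⟨k, rfl⟩
    fin_cases j
    · have : y *ᵥ b 0 = b 1 := by rw [hb]; simp [hv1]
      rw [show ((⟨0, by norm_num⟩ : Fin 4)) = 0 from rfl, this]; exact hmem 1
    · have : y *ᵥ b 1 = b 2 := by rw [hb]; simp [hv2]
      rw [show ((⟨1, by norm_num⟩ : Fin 4)) = 1 from rfl, this]; exact hmem 2
    · have : y *ᵥ b 2 = b 3 := by rw [hb]; simp [hv3]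
      rw [show ((⟨2, by norm_num⟩ : Fin 4)) = 2 from rfl, this]; exact hmem 3
    · have : y *ᵥ b 3 = -(b 0 + b 1 + b 2 + b 3) := by rw [hb]; simp [hv4]
      rw [show ((⟨3, by norm_num⟩ : Fin 4)) = 3 from rfl, this]
      exact Submodule.neg_mem _ (Submodule.add_mem _ (Submodule.add_mem _
        (Submodule.add_mem _ (hmem 0) (hmem 1)) (hmem 2)) (hmem 3))
  have hUinv : ∀ u ∈ Submodule.span F (Set.range b), y *ᵥ u ∈ Submodule.span F (Set.range b) := by
    intro u hu
    induction hu using Submodule.span_induction with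
    | mem x hx =>
      obtain ⟨j, rfl⟩ := hx
      exact hyb j
    | zero => rw [Matrix.mulVec_zero]; exact Submodule.zero_mem _
    | add x z _ _ hx hz => rw [Matrix.mulVec_add]; exact Submodule.add_mem _ hx hz
    | smul a x _ hx => rw [Matrix.mulVec_smul]; exact Submodule.smul_mem _ a hx
  have hU4 := four_dvd_finrank hord y hy5 (Submodule.span F (Set.range b)) hUinv
    (fun u _ hfu => hfix0 u (hNzero u) hfu)
  have hUle : Module.finrank F (Submodule.span F (Set.range b)) ≤ 4 := by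
    have := Submodule.finrank_le (Submodule.span F (Set.range b))
    rw [Module.finrank_fin_fun] at this
    exact this
  have hUne : Module.finrank F (Submodule.span F (Set.range b)) ≠ 0 := by
    intro h0
    have hbot : Submodule.span F (Set.range b) = ⊥ := Submodule.finrank_eq_zero.mp h0
    have hmem : b 0 ∈ Submodule.span F (Set.range b) := Submodule.subset_span ⟨0, rfl⟩
    rw [hbot, Submodule.mem_bot] at hmem
    apply hv0
    rw [← hmem, hb]
    rfl
  have hUtop : Submodule.span F (Set.range b) = ⊤ := by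
    apply Submodule.eq_top_of_finrank_eq
    rw [Module.finrank_fin_fun]
    obtain ⟨k, hk⟩ := hU4
    omega
  have hli : LinearIndependent F b :=
    linearIndependent_of_top_le_span_of_card_eq_finrank (le_of_eq hUtop.symm)
      (by rw [Fintype.card_fin, Module.finrank_fin_fun])
  refine ⟨Matrix.of (fun i j => b j i), ?_, ?_⟩
  · rw [← Matrix.isUnit_iff_isUnit_det, ← Matrix.linearIndependent_cols_iff_isUnit]
    have h2 : (Matrix.of (fun i j => b j i)).col = b := by
      ext j i; rfl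
    rw [h2]
    exact hli
  · have hcol : ∀ j : Fin 4, ∀ i : Fin 4, (y * Matrix.of (fun i j => b j i)) i j = (y *ᵥ b j) i := by
      intro j i
      rw [Matrix.mul_apply]
      rfl
    ext i j
    rw [hcol]
    fin_cases j
    · have : y *ᵥ b 0 = b 1 := by rw [hb]; simp [hv1]
      show (y *ᵥ b 0) i = _
      rw [this]
      simp [Matrix.mul_apply, Fin.sum_univ_four, n5]
    · have : y *ᵥ b 1 = b 2 := by rw [hb]; simp [hv2]
      show (y *ᵥ b 1) i = _
      rw [this]
      simp [Matrix.mul_apply, Fin.sum_univ_four, n5]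
    · have : y *ᵥ b 2 = b 3 := by rw [hb]; simp [hv3]
      show (y *ᵥ b 2) i = _
      rw [this]
      simp [Matrix.mul_apply, Fin.sum_univ_four, n5]
    · have : y *ᵥ b 3 = -(b 0 + b 1 + b 2 + b 3) := by rw [hb]; simp [hv4]
      show (y *ᵥ b 3) i = _
      rw [this]
      simp [Matrix.mul_apply, Fin.sum_univ_four, n5]
      ring

example : StC5NF.{u} := c5NF

end Cfsg.Agent.H99.S4P
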