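import Cfsg.Agent.H99.SpTrans
import Cfsg.Agent.H99.SLGen

set_option autoImplicit false

namespace Cfsg.Agent.H99

open Matrix Module
open scoped MatrixGroups

section
variable {F : Type*} [Field F] {n : ℕ}

/-- Every linear functional on `F^n` is the dot product with a vector. -/
theorem dot_repr (ψ : (Fin n → F) →ₗ[F] F) : ∃ φ : Fin n → F, ∀ x, φ ⬝ᵥ x = ψ x := by
  classical
  refine ⟨fun i => ψ (Pi.single i 1), fun x => ?_⟩
  rw [LinearMap.pi_apply_eq_sum_univ ψ x]
  unfold dotProduct
  refine Finset.sum_congr rfl fun i _ => ?_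
  have e : (Pi.single i 1 : Fin n → F) = fun j => if i = j then 1 else 0 := by
    ext j
    simp [Pi.single_apply, eq_comm]
  show ψ (Pi.single i 1) * x i = x i • ψ fun j => if i = j then 1 else 0
  rw [e, smul_eq_mul, mul_comm]

/-- The symplectic transvections. -/
theorem exists_symp_transvection (B : LinearMap.BilinForm F (Fin n → F))
    (hskew : ∀ v w : Fin n → F, B v w = -B w v) (halt : ∀ v : Fin n → F, B v v = 0)
    (a : Fin n → F) (c : F) :
    ∃ g : GL (Fin n) F, g ∈ Cfsg.Geo.specialLinear (Fin n) F ∧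
      (∀ u v, B (act g u) (act g v) = B u v) ∧ ∀ x, act g x = x + (c * B x a) • a := by
  obtain ⟨φ, hφ⟩ := dot_repr (c • B.flip a)
  have hφ' : ∀ x, φ ⬝ᵥ x = c * B x a := by
    intro x
    rw [hφ]
    rfl
  obtain ⟨g, hg, hgx⟩ := exists_transvection a φ (by rw [hφ', halt, mul_zero])
  refine ⟨g, hg, fun u v => ?_, fun x => by rw [hgx, hφ']⟩
  rw [hgx, hgx, hφ', hφ']
  simp only [map_add, map_smul, LinearMap.add_apply, LinearMap.smul_apply, smul_eq_mul, halt]
  rw [hskew a v]
  ring

/-- In dimension at least 3 some matrix of determinant one is not a similarity. -/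
theorem exists_non_similarity (hn : 3 ≤ n) (B : LinearMap.BilinForm F (Fin n → F))
    (hskew : ∀ v w : Fin n → F, B v w = -B w v) (halt : ∀ v : Fin n → F, B v v = 0)
    (hnd : ∀ v : Fin n → F, v ≠ 0 → ∃ x, B x v ≠ 0) :
    ∃ g : GL (Fin n) F, g ∈ Cfsg.Geo.specialLinear (Fin n) F ∧
      ¬ ∃ c : Fˣ, ∀ u v, B (act g u) (act g v) = (c : F) * B u v := by
  classical
  obtain ⟨w, hw⟩ : ∃ w : Fin n → F, w ≠ 0 :=
    ⟨Pi.single ⟨0, by omega⟩ 1, fun h => by
      have := congrFun h ⟨0, by omega⟩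
      simp at this⟩
  obtain ⟨e, he⟩ := hnd w hw
  have hspan : Submodule.span F (({w, e} : Finset (Fin n → F)) : Set (Fin n → F)) ≠ ⊤ := by
    intro htop
    have h1 := finrank_span_finset_le_card (R := F) ({w, e} : Finset (Fin n → F))
    unfold Set.finrank at h1
    rw [htop, finrank_top, Module.finrank_fin_fun] at h1
    have h2 := Finset.card_le_two (a := w) (b := e)
    omega
  obtain ⟨z, hz⟩ : ∃ z : Fin n → F,
      z ∉ Submodule.span F (({w, e} : Finset (Fin n → F)) : Set (Fin n → F)) := by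
    by_contra h
    push Not at h
    exact hspan (eq_top_iff.mpr (fun z _ => h z))
  have hwmem : w ∈ Submodule.span F (({w, e} : Finset (Fin n → F)) : Set (Fin n → F)) :=
    Submodule.subset_span (by simp)
  have hemem : e ∈ Submodule.span F (({w, e} : Finset (Fin n → F)) : Set (Fin n → F)) :=
    Submodule.subset_span (by simp)
  obtain ⟨y, hy⟩ : ∃ y : Fin n → F, y = z - (B z w / B e w) • e := ⟨_, rfl⟩
  have hyw : B y w = 0 := by
    rw [hy, map_sub, LinearMap.sub_apply, map_smul, LinearMap.smul_apply, smul_eq_mul,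
      div_mul_cancel₀ _ he, sub_self]
  have hwy : B w y = 0 := by rw [hskew, hyw, neg_zero]
  have hyns : ∀ c : F, y ≠ c • w := by
    intro c hc
    apply hz
    have h1 : z = c • w + (B z w / B e w) • e := by
      rw [← hc, hy]
      abel
    rw [h1]
    exact Submodule.add_mem _ (Submodule.smul_mem _ _ hwmem) (Submodule.smul_mem _ _ hemem)
  obtain ⟨φ, hφ⟩ := dot_repr (B.flip y)
  have hφ' : ∀ x, φ ⬝ᵥ x = B x y := hφ
  obtain ⟨g, hg, hgx⟩ := exists_transvection w φ (by rw [hφ', hwy])
  refine ⟨g, hg, ?_⟩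
  rintro ⟨c, hc⟩
  have key : ∀ u v, ((c : F) - 1) * B u v = B v y * B u w + B u y * B w v := by
    intro u v
    have h1 := hc u v
    rw [hgx, hgx, hφ', hφ'] at h1
    simp only [map_add, map_smul, LinearMap.add_apply, LinearMap.smul_apply, smul_eq_mul,
      halt] at h1
    linear_combination -h1
  have hew : B w e ≠ 0 := by
    rw [hskew]
    exact neg_ne_zero.mpr he
  have hc1 : (c : F) = 1 := by
    have h1 := key w e
    rw [halt, hwy] at h1
    have h2 : ((c : F) - 1) * B w e = 0 := by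
      rw [h1]
      ring
    rcases mul_eq_zero.mp h2 with h | h
    · exact sub_eq_zero.mp h
    · exact absurd h hew
  obtain ⟨v, hv1, hv2⟩ : ∃ v, B v w = 0 ∧ B v y ≠ 0 := by
    by_contra hcon
    push Not at hcon
    obtain ⟨c', hc'⟩ := perp_perp B hnd w y hcon
    exact hyns c' hc'
  have h3 := key e v
  rw [hc1, sub_self, zero_mul, hskew w v, hv1, neg_zero, mul_zero, add_zero] at h3
  rcases mul_eq_zero.mp h3.symm with h | h
  · exact hv2 h
  · exact he h

/-- The similarity group of a symplectic form meets `SL_n(F)` in a maximal subgroup, for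
`n ≥ 3`. -/
theorem sp_maximal (hn : 3 ≤ n) (f : (Fin n → F) → (Fin n → F) → F)
    (hf : Cfsg.Geo.IsSymplecticForm f) :
    Cfsg.Geo.IsMaximalIn (Cfsg.Geo.specialLinear (Fin n) F)
      (Cfsg.Geo.similarityGroup f ⊓ Cfsg.Geo.specialLinear (Fin n) F) := by
  classical
  obtain ⟨B, hB⟩ : ∃ B : LinearMap.BilinForm F (Fin n → F), ∀ x y, B x y = f x y :=
    ⟨LinearMap.mk₂ F f hf.bilinear.add_left
      (fun c x v => by rw [hf.bilinear.smul_left, smul_eq_mul]) hf.bilinear.add_right
      (fun c v x => by rw [hf.bilinear.smul_right, smul_eq_mul]), fun x y => rfl⟩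
  have hskew : ∀ v w : Fin n → F, B v w = -B w v := fun v w => by rw [hB, hB, hf.skew]
  have halt : ∀ v : Fin n → F, B v v = 0 := fun v => by rw [hB, hf.alternating]
  have hnd : ∀ v : Fin n → F, v ≠ 0 → ∃ x, B x v ≠ 0 := by
    intro v hv
    obtain ⟨x, hx⟩ := (hf.nondegenerate v hv).1
    exact ⟨x, by rw [hB]; exact hx⟩
  have hsim : ∀ g : GL (Fin n) F, g ∈ Cfsg.Geo.similarityGroup f ↔
      ∃ c : Fˣ, ∀ u v, B (act g u) (act g v) = (c : F) * B u v := by
    intro g
    constructor
    · rintro ⟨c, hc⟩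
      exact ⟨c, fun u v => by rw [hB, hB]; exact hc u v⟩
    · rintro ⟨c, hc⟩
      exact ⟨c, fun u v => by
        have h1 := hc u v
        rw [hB, hB] at h1
        exact h1⟩
  constructor
  · refine lt_of_le_of_ne inf_le_right ?_
    intro heq
    obtain ⟨g, hgSL, hgns⟩ := exists_non_similarity hn B hskew halt hnd
    have h1 : g ∈ Cfsg.Geo.similarityGroup f ⊓ Cfsg.Geo.specialLinear (Fin n) F := by
      rw [heq]
      exact hgSL
    exact hgns ((hsim g).mp h1.1)
  · intro M hHM hMK
    by_cases hMS : M ≤ Cfsg.Geo.similarityGroup f ⊓ Cfsg.Geo.specialLinear (Fin n) F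
    · left
      exact le_antisymm hMS hHM
    · right
      obtain ⟨g, hgM, hgS⟩ := SetLike.not_le_iff_exists.mp hMS
      have hgns : ¬ ∃ c : Fˣ, ∀ u v, B (act g u) (act g v) = (c : F) * B u v := by
        intro h
        exact hgS ⟨(hsim g).mpr h, hMK hgM⟩
      have hS : HasSympTv M B := by
        intro a c
        obtain ⟨τ, hτ, hiso, hτx⟩ := exists_symp_transvection B hskew halt a c
        refine ⟨τ, ⟨hHM ⟨(hsim τ).mpr ⟨1, fun u v => ?_⟩, hτ⟩, hiso⟩, hτx⟩
        rw [hiso, Units.val_one, one_mul]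
      obtain ⟨w₀, y₀, h₀, h₀', hw₀, hy₀⟩ := exists_bad_tv hskew halt hnd hS g hgM hgns
      exact le_antisymm hMK (sl_le_of_transvections (by omega) M
        (all_transvections hskew halt hnd hS h₀ h₀' hw₀ hy₀))

end

end Cfsg.Agent.H99
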