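import Cfsg.Agent.H99.SpBasic

set_option autoImplicit false

namespace Cfsg.Agent.H99

open Matrix
open scoped MatrixGroups

section
variable {F : Type*} [Field F] {n : ℕ} (M : Subgroup (GL (Fin n) F))
  (B : LinearMap.BilinForm F (Fin n → F))

/-- The isometries of `B` lying in `M`. -/
def isoSub : Subgroup (GL (Fin n) F) where
  carrier := {g | g ∈ M ∧ ∀ u v, B (act g u) (act g v) = B u v}
  mul_mem' := by
    rintro a b ⟨ha, ha'⟩ ⟨hb, hb'⟩
    exact ⟨M.mul_mem ha hb, fun u v => by rw [act_mul, act_mul, ha', hb']⟩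
  one_mem' := ⟨M.one_mem, fun u v => by rw [act_one, act_one]⟩
  inv_mem' := by
    rintro a ⟨ha, ha'⟩
    exact ⟨M.inv_mem ha, fun u v => by
      rw [← ha' (act a⁻¹ u) (act a⁻¹ v), act_act_inv, act_act_inv]⟩

/-- `M` contains the transvection `x ↦ x + B(x, y) w`. -/
def HasTv (w y : Fin n → F) : Prop := ∃ g ∈ M, ∀ x, act g x = x + B x y • w

/-- `M` contains all symplectic transvections. -/
def HasSympTv : Prop :=
  ∀ (a : Fin n → F) (c : F), ∃ g ∈ isoSub M B, ∀ x, act g x = x + (c * B x a) • a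

variable {M B}

theorem hasTv_conj {τ : GL (Fin n) F} (hτ : τ ∈ isoSub M B) {w y : Fin n → F}
    (h : HasTv M B w y) : HasTv M B (act τ w) (act τ y) := by
  obtain ⟨g, hg, hgx⟩ := h
  obtain ⟨hτM, hiso⟩ := hτ
  refine ⟨τ * g * τ⁻¹, M.mul_mem (M.mul_mem hτM hg) (M.inv_mem hτM), fun x => ?_⟩
  rw [act_mul, act_mul, hgx, act_add, act_act_inv, act_smul]
  congr 2
  rw [← hiso (act τ⁻¹ x) y, act_act_inv]

theorem sym_move (halt : ∀ v : Fin n → F, B v v = 0) (hS : HasSympTv M B) (u u' : Fin n → F)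
    (h : B u u' ≠ 0) :
    ∃ τ ∈ isoSub M B, act τ u = u' ∧ ∀ z, B z (u - u') = 0 → act τ z = z := by
  obtain ⟨g, hg, hgx⟩ := hS (u - u') (B u u')⁻¹
  refine ⟨g, hg, ?_, ?_⟩
  · rw [hgx, map_sub, halt, zero_sub, mul_neg, inv_mul_cancel₀ h, neg_smul, one_smul]
    abel
  · intro z hz
    rw [hgx, hz, mul_zero, zero_smul, add_zero]

theorem sym_trans (hskew : ∀ v w : Fin n → F, B v w = -B w v)
    (halt : ∀ v : Fin n → F, B v v = 0)
    (hnd : ∀ v : Fin n → F, v ≠ 0 → ∃ x, B x v ≠ 0) (hS : HasSympTv M B) (u u' : Fin n → F)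
    (hu : u ≠ 0) (hu' : u' ≠ 0) : ∃ τ ∈ isoSub M B, act τ u = u' := by
  by_cases h : B u u' = 0
  · obtain ⟨z, hz1, hz2⟩ := two_fun B hnd u u' hu hu'
    have h1 : B u z ≠ 0 := by
      rw [hskew]
      exact neg_ne_zero.mpr hz1
    obtain ⟨τ₁, hτ₁, e₁, -⟩ := sym_move halt hS u z h1
    obtain ⟨τ₂, hτ₂, e₂, -⟩ := sym_move halt hS z u' hz2
    exact ⟨τ₂ * τ₁, (isoSub M B).mul_mem hτ₂ hτ₁, by rw [act_mul, e₁, e₂]⟩
  · obtain ⟨τ, hτ, e, -⟩ := sym_move halt hS u u' h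
    exact ⟨τ, hτ, e⟩

theorem move_y (halt : ∀ v : Fin n → F, B v v = 0) (hS : HasSympTv M B) {w y y' : Fin n → F}
    (h : HasTv M B w y) (hwy : B w y = 0) (hwy' : B w y' = 0) (hyy' : B y y' ≠ 0) :
    HasTv M B w y' := by
  obtain ⟨τ, hτ, e, hfix⟩ := sym_move halt hS y y' hyy'
  have h1 := hasTv_conj hτ h
  rw [e, hfix w (by rw [map_sub, hwy, hwy', sub_zero])] at h1
  exact h1

theorem move_y' (hskew : ∀ v w : Fin n → F, B v w = -B w v)
    (halt : ∀ v : Fin n → F, B v v = 0)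
    (hnd : ∀ v : Fin n → F, v ≠ 0 → ∃ x, B x v ≠ 0) (hS : HasSympTv M B) {w y y' : Fin n → F}
    (h : HasTv M B w y) (hwy : B w y = 0) (hy : ∀ c : F, y ≠ c • w) (hwy' : B w y' = 0)
    (hy' : ∀ c : F, y' ≠ c • w) : HasTv M B w y' := by
  by_cases hyy' : B y y' = 0
  · obtain ⟨z, hz1, hz2, hz3⟩ := two_fun_perp B hnd w y y' hy hy'
    have hwz : B w z = 0 := by rw [hskew, hz1, neg_zero]
    have hyz : B y z ≠ 0 := by
      rw [hskew]
      exact neg_ne_zero.mpr hz2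
    exact move_y halt hS (move_y halt hS h hwy hwz hyz) hwz hwy' hz3
  · exact move_y halt hS h hwy hwy' hyy'

/-- If `M` contains all symplectic transvections and one non-symplectic transvection, it
contains all transvections `x ↦ x + B(x, y) w` with `B(w, y) = 0`. -/
theorem all_tv (hskew : ∀ v w : Fin n → F, B v w = -B w v)
    (halt : ∀ v : Fin n → F, B v v = 0)
    (hnd : ∀ v : Fin n → F, v ≠ 0 → ∃ x, B x v ≠ 0) (hS : HasSympTv M B) {w₀ y₀ : Fin n → F}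
    (h₀ : HasTv M B w₀ y₀) (h₀' : B w₀ y₀ = 0) (hw₀ : w₀ ≠ 0) (hy₀ : ∀ c : F, y₀ ≠ c • w₀)
    (w y : Fin n → F) (hwy : B w y = 0) : HasTv M B w y := by
  by_cases hw : w = 0
  · exact ⟨1, M.one_mem, fun x => by rw [act_one, hw, smul_zero, add_zero]⟩
  by_cases hy : ∃ c : F, y = c • w
  · obtain ⟨c, rfl⟩ := hy
    obtain ⟨g, hg, hgx⟩ := hS w c
    exact ⟨g, hg.1, fun x => by rw [hgx, map_smul, smul_eq_mul]⟩
  push Not at hy
  obtain ⟨τ, hτ, e⟩ := sym_trans hskew halt hnd hS w₀ w hw₀ hw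
  have h1 := hasTv_conj hτ h₀
  rw [e] at h1
  refine move_y' hskew halt hnd hS h1 ?_ ?_ hwy hy
  · rw [← e, hτ.2, h₀']
  · intro c hc
    apply hy₀ c
    apply act_injective τ
    rw [hc, act_smul, e]

/-- A non-similarity in `M` yields a non-symplectic transvection in `M`. -/
theorem exists_bad_tv (hskew : ∀ v w : Fin n → F, B v w = -B w v)
    (halt : ∀ v : Fin n → F, B v v = 0)
    (hnd : ∀ v : Fin n → F, v ≠ 0 → ∃ x, B x v ≠ 0) (hS : HasSympTv M B) (g : GL (Fin n) F)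
    (hg : g ∈ M) (hns : ¬ ∃ c : Fˣ, ∀ u v, B (act g u) (act g v) = (c : F) * B u v) :
    ∃ w₀ y₀, HasTv M B w₀ y₀ ∧ B w₀ y₀ = 0 ∧ w₀ ≠ 0 ∧ ∀ c : F, y₀ ≠ c • w₀ := by
  have hperp : ∃ u v, B u v = 0 ∧ B (act g u) (act g v) ≠ 0 := by
    by_contra hcon
    push Not at hcon
    exact hns (similarity_of_perp B hskew hnd g hcon)
  obtain ⟨u, v, huv, hguv⟩ := hperp
  obtain ⟨τ, hτ, hτx⟩ := hS v 1
  obtain ⟨y₀, hy₀⟩ := riesz B hnd
    ((B.flip v) ∘ₗ Matrix.toLin' ((g⁻¹ : GL (Fin n) F) : Matrix (Fin n) (Fin n) F))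
  have hy₀' : ∀ x, B x y₀ = B (act g⁻¹ x) v := by
    intro x
    rw [hy₀]
    rfl
  refine ⟨act g v, y₀, ⟨g * τ * g⁻¹, M.mul_mem (M.mul_mem hg hτ.1) (M.inv_mem hg),
    fun x => ?_⟩, ?_, ?_, ?_⟩
  · rw [act_mul, act_mul, hτx, act_add, act_act_inv, act_smul, one_mul, hy₀']
  · rw [hy₀', act_inv_act, halt]
  · intro h0
    apply hguv
    rw [h0, map_zero]
  · intro c hc
    have h1 : B (act g u) y₀ = 0 := by rw [hy₀', act_inv_act, huv]
    rw [hc, map_smul, smul_eq_mul] at h1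
    rcases mul_eq_zero.mp h1 with h | h
    · rw [h, zero_smul] at hc
      have hv0 : v = 0 := by
        by_contra hv
        obtain ⟨x, hx⟩ := hnd v hv
        apply hx
        have := hy₀' (act g x)
        rw [hc, map_zero, act_inv_act] at this
        exact this.symm
      apply hguv
      rw [hv0, act_zero, map_zero]
    · exact hguv h

/-- If `M` contains all symplectic transvections and one non-symplectic transvection, it
contains all transvections. -/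
theorem all_transvections (hskew : ∀ v w : Fin n → F, B v w = -B w v)
    (halt : ∀ v : Fin n → F, B v v = 0)
    (hnd : ∀ v : Fin n → F, v ≠ 0 → ∃ x, B x v ≠ 0) (hS : HasSympTv M B) {w₀ y₀ : Fin n → F}
    (h₀ : HasTv M B w₀ y₀) (h₀' : B w₀ y₀ = 0) (hw₀ : w₀ ≠ 0) (hy₀ : ∀ c : F, y₀ ≠ c • w₀)
    (w φ : Fin n → F) (h : φ ⬝ᵥ w = 0) : ∃ g ∈ M, ∀ x, act g x = x + (φ ⬝ᵥ x) • w := by
  obtain ⟨y, hy⟩ := riesz B hnd
    { toFun := fun x => φ ⬝ᵥ x
      map_add' := fun x x' => dotProduct_add φ x x'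
      map_smul' := fun c x => by simp [dotProduct_smul] }
  have hy' : ∀ x, B x y = φ ⬝ᵥ x := hy
  obtain ⟨g, hg, hgx⟩ := all_tv hskew halt hnd hS h₀ h₀' hw₀ hy₀ w y (by rw [hy', h])
  exact ⟨g, hg, fun x => by rw [hgx, hy']⟩

end

end Cfsg.Agent.H99
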